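import Groth.Agent.FBaseDim.Subset
import Groth.Agent.S10831

/-!
# The dimension of a product
-/

set_option autoImplicit false
universe u

open CategoryTheory CategoryTheory.Limits AlgebraicGeometry Groth.Agent

set_option backward.isDefEq.respectTransparency false

namespace Groth.Agent.FBaseDim

theorem add_le_of_forall_natCast {A B c : WithBot ℕ∞}
    (h : ∀ a b : ℕ, (a : WithBot ℕ∞) ≤ A → (b : WithBot ℕ∞) ≤ B → ((a + b : ℕ) : WithBot ℕ∞) ≤ c) :
    A + B ≤ c := by
  induction A with
  | bot => simp
  | coe A =>
    induction B with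
    | bot => simp
    | coe B =>
      induction c with
      | bot => exact absurd (h 0 0 (WithBot.coe_le_coe.mpr zero_le) (WithBot.coe_le_coe.mpr zero_le)) (by simp)
      | coe c =>
        have h' : ∀ a b : ℕ, (a : ℕ∞) ≤ A → (b : ℕ∞) ≤ B → ((a + b : ℕ) : ℕ∞) ≤ c :=
          fun a b ha hb => by exact_mod_cast h a b (by exact_mod_cast ha) (by exact_mod_cast hb)
        rw [← WithBot.coe_add, WithBot.coe_le_coe]
        induction A with
        | top =>
          have hc : c = ⊤ := ENat.eq_top_iff_forall_ge.mpr fun a => by simpa using h' a 0 le_top zero_le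
          simp [hc]
        | coe A =>
          induction B with
          | top =>
            have hc : c = ⊤ := ENat.eq_top_iff_forall_ge.mpr fun b => by simpa using h' 0 b zero_le le_top
            simp [hc]
          | coe B => exact_mod_cast h' A B le_rfl le_rfl

theorem exists_component_natCast_le {T : Type*} [TopologicalSpace T] (a : ℕ)
    (ha : (a : WithBot ℕ∞) ≤ topologicalKrullDim T) :
    ∃ Z ∈ irreducibleComponents T, (a : WithBot ℕ∞) ≤ topologicalKrullDim ↥Z := by
  rw [show topologicalKrullDim T = ⨆ Y ∈ irreducibleComponents T, topologicalKrullDim ↥Y from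
    S10831.result T] at ha
  by_contra hn
  push Not at hn
  rcases a with - | a
  · refine absurd (ha.trans (iSup₂_le (a := (⊥ : WithBot ℕ∞)) fun Z hZ => ?_)) (by simp)
    exact le_of_eq (WithBot.lt_coe_bot.mp (hn Z hZ))
  · refine absurd (ha.trans (iSup₂_le (a := ((a : ℕ) : WithBot ℕ∞)) fun Z hZ => ?_)) ?_
    · have hlt := hn Z hZ
      generalize topologicalKrullDim (Z : Set T) = d at hlt ⊢
      induction d with
      | bot => exact bot_le
      | coe d => exact WithBot.coe_le_coe.mpr (Order.le_of_lt_add_one (WithBot.coe_lt_coe.mp (by exact_mod_cast hlt) : d < (a : ℕ∞) + 1))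
    · exact_mod_cast Nat.not_succ_le_self a

variable {k : Type u} [Field k] {X Y : Scheme.{u}} (f : X ⟶ Spec (CommRingCat.of k))
  (g : Y ⟶ Spec (CommRingCat.of k)) [LocallyOfFiniteType f] [LocallyOfFiniteType g]

theorem topologicalKrullDim_closure_prod {z : (pullback f g : Scheme.{u})} (hmax : Unibranch.IsMaxPt z) :
    topologicalKrullDim (closure ({z} : Set ↥(pullback f g))) =
      topologicalKrullDim (closure ({pullback.fst f g z} : Set X)) +
        topologicalKrullDim (closure ({pullback.snd f g z} : Set Y)) := by
  have hf : LocallyOfFiniteType (pullback.snd f g) := MorphismProperty.pullback_snd _ _ ‹_›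
  have h1 := isMaxPt_map (Flat.generalizingMap (pullback.snd f g)) hmax
  have h2 := isMaxPt_map (Flat.generalizingMap (pullback.fst f g)) hmax
  rw [LocalDimBC.topologicalKrullDim_closure_eq (pullback.snd f g ≫ g) z hmax,
    LocalDimBC.topologicalKrullDim_closure_eq g _ h1, LocalDimBC.topologicalKrullDim_closure_eq f _ h2,
    LocalDimBC.localDim_eq_add (pullback.snd f g) g z (Flat.stalkMap _ _),
    LocalDimBC.fibreDimAt_of_isPullback f g _ _ (IsPullback.of_hasPullback f g) z,
    CMChart.fibreDimAt_eq_localDim f]

theorem topologicalKrullDim_prod :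
    topologicalKrullDim ↥(pullback f g) = topologicalKrullDim ↥X + topologicalKrullDim ↥Y := by
  refine le_antisymm ?_ (add_le_of_forall_natCast fun a b ha hb => ?_)
  · rw [S10831.result ↥(pullback f g)]
    refine iSup₂_le fun Z hZ => ?_
    obtain ⟨z, hz⟩ := QuasiSober.sober hZ.1 (isClosed_of_mem_irreducibleComponents Z hZ)
    rw [← hz.def, topologicalKrullDim_closure_prod f g (isMaxPt_genericPoint hZ hz)]
    exact add_le_add Topology.IsInducing.subtypeVal.topologicalKrullDim_le
      Topology.IsInducing.subtypeVal.topologicalKrullDim_le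
  · obtain ⟨A, hA, haA⟩ := exists_component_natCast_le a ha
    obtain ⟨B, hB, hbB⟩ := exists_component_natCast_le b hb
    obtain ⟨x, hx⟩ := QuasiSober.sober hA.1 (isClosed_of_mem_irreducibleComponents A hA)
    obtain ⟨y, hy⟩ := QuasiSober.sober hB.1 (isClosed_of_mem_irreducibleComponents B hB)
    obtain ⟨w, hw1, hw2⟩ := Scheme.Pullback.exists_preimage_pullback (f := f) (g := g) x y
      (Subsingleton.elim (α := PrimeSpectrum k) _ _)
    obtain ⟨z, hzw, hmax⟩ := SpQS.exists_isMaxPt_specializes w
    have e1 : pullback.fst f g z = x :=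
      isMaxPt_genericPoint hA hx _ (hw1 ▸ hzw.map (pullback.fst f g).continuous)
    have e2 : pullback.snd f g z = y :=
      isMaxPt_genericPoint hB hy _ (hw2 ▸ hzw.map (pullback.snd f g).continuous)
    calc ((a + b : ℕ) : WithBot ℕ∞) = (a : WithBot ℕ∞) + b := by push_cast; rfl
      _ ≤ topologicalKrullDim A + topologicalKrullDim B := add_le_add haA hbB
      _ = topologicalKrullDim (closure ({z} : Set ↥(pullback f g))) := by
          rw [topologicalKrullDim_closure_prod f g hmax, e1, e2, hx.def, hy.def]
      _ ≤ _ := Topology.IsInducing.subtypeVal.topologicalKrullDim_le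

end Groth.Agent.FBaseDim
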