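import Groth.Agent.LocalDimBC.Comp
import Groth.Agent.SpQS.GenPts
import Groth.Agent.GeomConn.Comp
import Groth.Prelude.Def_FDesc

/-!
# Dimensions of irreducible components after base change of the ground field
-/

set_option autoImplicit false
universe u

open CategoryTheory CategoryTheory.Limits AlgebraicGeometry Groth.Agent

set_option backward.isDefEq.respectTransparency false

namespace Groth.Agent.FBaseDim

theorem isMaxPt_genericPoint {X : Scheme.{u}} {C : Set X} (hC : C ∈ irreducibleComponents X) {z : X}
    (hz : IsGenericPoint z C) : Unibranch.IsMaxPt z := by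
  intro w hw
  have hsub : C ⊆ closure {w} := by
    rw [← hz.def]
    exact closure_minimal (Set.singleton_subset_iff.mpr hw.mem_closure) isClosed_closure
  have hwC : w ∈ C := hC.2 isIrreducible_singleton.closure hsub (subset_closure rfl)
  exact (Specializes.antisymm hw (hz.specializes hwC)).eq

theorem isMaxPt_map {X Y : Scheme.{u}} {f : X ⟶ Y} (hf : GeneralizingMap f.base) {x : X}
    (hx : Unibranch.IsMaxPt x) : Unibranch.IsMaxPt (f x) := by
  intro y hy
  obtain ⟨x', hx', rfl⟩ := hf hy
  rw [hx x' hx']


theorem exists_component {X : Scheme.{u}} {z : X} (hz : Unibranch.IsMaxPt z) :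
    closure ({z} : Set X) ∈ irreducibleComponents X := hz.mem_irreducibleComponents

/-- For an irreducible scheme locally of finite type over a field the local dimension is the dimension. -/
theorem localDim_genericPoint {K : Type u} [Field K] {X : Scheme.{u}} (q : X ⟶ Spec (CommRingCat.of K))
    [LocallyOfFiniteType q] [IrreducibleSpace X] :
    FlatMor.localDim X (genericPoint X) = topologicalKrullDim X := by
  have h := LocalDimBC.topologicalKrullDim_closure_eq q (genericPoint X)
    (isMaxPt_genericPoint (by rw [irreducibleComponents_eq_singleton]; rfl) (genericPoint_spec X))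
  rw [(genericPoint_spec X).def] at h
  rw [← h]
  exact (Homeomorph.Set.univ _).isHomeomorph.topologicalKrullDim_eq

variable {k K : Type u} [Field k] [Field K] [Algebra k K] {X : Scheme.{u}} (f : X ⟶ Spec (CommRingCat.of k))

instance [LocallyOfFiniteType f] : LocallyOfFiniteType (FBase.bcStr f K) :=
  MorphismProperty.pullback_snd _ _ ‹_›

theorem generalizingMap_bcπ : GeneralizingMap (FBase.bcπ f K).base := GeomConn.generalizingMap_fst f

theorem topologicalKrullDim_closure [LocallyOfFiniteType f] {w : FBase.bc f K} (hw : Unibranch.IsMaxPt w) :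
    topologicalKrullDim (closure ({w} : Set (FBase.bc f K))) =
      topologicalKrullDim (closure ({FBase.bcπ f K w} : Set X)) := by
  rw [LocalDimBC.topologicalKrullDim_closure_eq (FBase.bcStr f K) w hw,
    LocalDimBC.topologicalKrullDim_closure_eq f _ (isMaxPt_map (generalizingMap_bcπ f) hw)]
  exact LocalDimBC.localDim_of_isPullback f _ (FBase.bcπ f K) (FBase.bcStr f K) (IsPullback.of_hasPullback _ _) w

/-- The dimensions of the irreducible components do not change under extension of the ground field. -/
theorem image_dim_components [LocallyOfFiniteType f] :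
    (fun Z : Set ↥(FBase.bc f K) => topologicalKrullDim ↥Z) '' irreducibleComponents ↥(FBase.bc f K) =
      (fun Z : Set ↥X => topologicalKrullDim ↥Z) '' irreducibleComponents ↥X := by
  refine Set.Subset.antisymm ?_ ?_
  · rintro d ⟨W, hW, rfl⟩
    obtain ⟨w, hw⟩ := QuasiSober.sober hW.1 (isClosed_of_mem_irreducibleComponents W hW)
    have hmax := isMaxPt_genericPoint hW hw
    refine ⟨_, exists_component (isMaxPt_map (generalizingMap_bcπ f) hmax), ?_⟩
    simp only
    rw [← hw.def, topologicalKrullDim_closure f hmax]
  · rintro d ⟨Z, hZ, rfl⟩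
    obtain ⟨z, hz⟩ := QuasiSober.sober hZ.1 (isClosed_of_mem_irreducibleComponents Z hZ)
    have : Surjective (Spec.map (CommRingCat.ofHom (algebraMap k K))) :=
      ⟨Function.surjective_to_subsingleton (α := PrimeSpectrum K) (β := PrimeSpectrum k) _⟩
    have : Surjective (FBase.bcπ f K) := MorphismProperty.pullback_fst _ _ ‹_›
    obtain ⟨w, hw⟩ := (FBase.bcπ f K).surjective z
    obtain ⟨g, hg, hgmax⟩ := SpQS.exists_isMaxPt_specializes w
    have hgz : FBase.bcπ f K g = z :=
      isMaxPt_genericPoint hZ hz _ (hw ▸ hg.map (FBase.bcπ f K).continuous)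
    refine ⟨_, exists_component hgmax, ?_⟩
    simp only
    rw [topologicalKrullDim_closure f hgmax, hgz, hz.def]

end Groth.Agent.FBaseDim
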