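import Groth.Agent.FBaseDim.Basic

/-!
# Components of the preimage of an irreducible closed subset; components of a product
-/

set_option autoImplicit false
universe u

open CategoryTheory CategoryTheory.Limits AlgebraicGeometry Groth.Agent

set_option backward.isDefEq.respectTransparency false

namespace Groth.Agent.FBaseDim

variable {k K : Type u} [Field k] [Field K] [Algebra k K] {X : Scheme.{u}} (f : X ⟶ Spec (CommRingCat.of k))

theorem topologicalKrullDim_component_preimage [LocallyOfFiniteType f] (Z : Set X) (hZc : IsClosed Z)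
    (hZi : IsIrreducible Z) (W : Set ↥(⇑(FBase.bcπ f K) ⁻¹' Z))
    (hW : W ∈ irreducibleComponents ↥(⇑(FBase.bcπ f K) ⁻¹' Z)) :
    topologicalKrullDim ↥W = topologicalKrullDim ↥Z := by
  let I := Scheme.IdealSheafData.vanishingIdeal ⟨Z, hZc⟩
  let i := I.subschemeι
  have hi : Set.range i = Z := (I.range_subschemeι).trans (by simp [I])
  let P := pullback (FBase.bcπ f K) i
  have sq : IsPullback (pullback.snd (FBase.bcπ f K) i) (pullback.fst _ _ ≫ FBase.bcStr f K) (i ≫ f)
      (Spec.map (CommRingCat.ofHom (algebraMap k K))) :=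
    (IsPullback.of_hasPullback (FBase.bcπ f K) i).flip.paste_vert (IsPullback.of_hasPullback _ _)
  let e : P ≅ FBase.bc (i ≫ f) K := sq.isoPullback
  let m : FBase.bc (i ≫ f) K ⟶ FBase.bc f K := e.inv ≫ pullback.fst _ _
  have hm : IsClosedImmersion m := inferInstance
  have hrange : Set.range m = ⇑(FBase.bcπ f K) ⁻¹' Z := by
    have h : Function.Surjective e.inv := e.inv.surjective
    rw [← hi, ← Scheme.Pullback.range_fst, Scheme.Hom.comp_base, TopCat.coe_comp, h.range_comp]
  let h : FBase.bc (i ≫ f) K ≃ₜ ↥(⇑(FBase.bcπ f K) ⁻¹' Z) :=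
    m.isEmbedding.toHomeomorph.trans (Homeomorph.setCongr hrange)
  let hZ : I.subscheme ≃ₜ Z := i.isEmbedding.toHomeomorph.trans (Homeomorph.setCongr hi)
  haveI : IrreducibleSpace I.subscheme := by
    have : IrreducibleSpace Z := Subtype.irreducibleSpace hZi
    exact hZ.symm.surjective.irreducibleSpace hZ.symm.continuous
  have hmem : h ⁻¹' W ∈ irreducibleComponents (FBase.bc (i ≫ f) K) := by
    refine preimage_mem_irreducibleComponents hW h.isOpenEmbedding ?_
    rw [h.surjective.range_eq, Set.inter_univ]
    exact hW.1.nonempty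
  have := (image_dim_components (K := K) (i ≫ f)).le ⟨_, hmem, rfl⟩
  rw [irreducibleComponents_eq_singleton, Set.image_singleton, Set.mem_singleton_iff] at this
  have eW : ↥(h ⁻¹' W) ≃ₜ ↥W := h.subtype fun _ => Iff.rfl
  simp only at this
  rw [← eW.isHomeomorph.topologicalKrullDim_eq, this,
    (Homeomorph.Set.univ I.subscheme).isHomeomorph.topologicalKrullDim_eq, hZ.isHomeomorph.topologicalKrullDim_eq]

omit f in
/-- Every component of the product of two integral schemes of finite type over a field has the expected dimension. -/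
theorem topologicalKrullDim_component_prod {Y : Scheme.{u}} (f : X ⟶ Spec (CommRingCat.of k))
    (g : Y ⟶ Spec (CommRingCat.of k)) [IrreducibleSpace X] [IrreducibleSpace Y] [LocallyOfFiniteType f]
    [LocallyOfFiniteType g] {Z : Set ↥(pullback f g)} (hZ : Z ∈ irreducibleComponents ↥(pullback f g)) :
    topologicalKrullDim ↥Z = topologicalKrullDim ↥X + topologicalKrullDim ↥Y := by
  obtain ⟨z, hz⟩ := QuasiSober.sober hZ.1 (isClosed_of_mem_irreducibleComponents Z hZ)
  have hmax := isMaxPt_genericPoint hZ hz
  have hf : LocallyOfFiniteType (pullback.snd f g) := MorphismProperty.pullback_snd _ _ ‹_›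
  have h1 : pullback.snd f g z = genericPoint Y :=
    ((isMaxPt_map (Flat.generalizingMap (pullback.snd f g)) hmax) _ (genericPoint_specializes _)).symm
  have h2 : pullback.fst f g z = genericPoint X :=
    ((isMaxPt_map (Flat.generalizingMap (pullback.fst f g)) hmax) _ (genericPoint_specializes _)).symm
  have e := LocalDimBC.topologicalKrullDim_closure_eq (pullback.snd f g ≫ g) z hmax
  rw [hz.def] at e
  rw [e, LocalDimBC.localDim_eq_add (pullback.snd f g) g z (Flat.stalkMap _ _), h1, localDim_genericPoint g,
    LocalDimBC.fibreDimAt_of_isPullback f g _ _ (IsPullback.of_hasPullback f g) z, h2,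
    CMChart.fibreDimAt_eq_localDim f, localDim_genericPoint f]

end Groth.Agent.FBaseDim
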